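import Mathlib
import Cfsg.Agent.Lib.BoundedPresentation.Carmichael
import Cfsg.Prelude.Def_Sporadic

/-!
From ten Carmichael elements in a group of order 273030912000000 to the permutation group on
1140000 points with point stabiliser the alternating group of degree 12.
-/

set_option autoImplicit false

namespace Cfsg.Agent.Lib.HNA12

open Cfsg.Agent.Lib.BoundedPresentation

/-- The action of a simple group on the cosets of a proper subgroup, on numbered points. -/
theorem coset_perm_group {G : Type} [Group G] [IsSimpleGroup G] (A : Subgroup G) (n : ℕ)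
    (hn : A.index = n + 1) (hne : n ≠ 0) :
    ∃ H : Subgroup (Equiv.Perm (Fin (n + 1))), Nonempty (G ≃* H) ∧
      MulAction.IsPretransitive H (Fin (n + 1)) ∧
      Nonempty (MulAction.stabilizer H (0 : Fin (n + 1)) ≃* A) := by
  have hQ : Nat.card (G ⧸ A) = n + 1 := hn
  haveI : Finite (G ⧸ A) := Nat.finite_of_card_ne_zero (by omega)
  let e0 : G ⧸ A ≃ Fin (n + 1) := Finite.equivFinOfCardEq hQ
  let q0 : G ⧸ A := ((1 : G) : G ⧸ A)
  let e : G ⧸ A ≃ Fin (n + 1) := e0.trans (Equiv.swap (e0 q0) 0)
  have he : e q0 = 0 := by simp [e]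
  have he' : e.symm 0 = q0 := by rw [← he, Equiv.symm_apply_apply]
  let φ : G →* Equiv.Perm (Fin (n + 1)) :=
    e.permCongrHom.toMonoidHom.comp (MulAction.toPermHom G (G ⧸ A))
  have hφ : ∀ g x, φ g x = e (g • e.symm x) := fun g x => rfl
  have hstab : ∀ g, φ g 0 = 0 ↔ g ∈ A := fun g => by
    rw [hφ, he']
    constructor
    · intro h
      have h' : g • q0 = q0 := e.injective (by rw [h, he])
      have : g ∈ MulAction.stabilizer G q0 := h'
      rwa [MulAction.stabilizer_quotient] at this
    · intro h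
      have : g ∈ MulAction.stabilizer G q0 := by rwa [MulAction.stabilizer_quotient]
      rw [MulAction.mem_stabilizer_iff.1 this, he]
  have hinj : Function.Injective φ := by
    rw [← MonoidHom.ker_eq_bot_iff]
    rcases IsSimpleGroup.eq_bot_or_eq_top_of_normal φ.ker inferInstance with h | h
    · exact h
    · exfalso
      have : A = ⊤ := by
        rw [eq_top_iff]
        intro g _
        rw [← hstab]
        have hg : g ∈ φ.ker := by rw [h]; exact Subgroup.mem_top _
        rw [MonoidHom.mem_ker.1 hg]; rfl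
      rw [this, Subgroup.index_top] at hn
      omega
  let eH : G ≃* φ.range := MonoidHom.ofInjective hinj
  refine ⟨φ.range, ⟨eH⟩, ⟨fun x y => ?_⟩, ?_⟩
  · obtain ⟨g, hg⟩ := MulAction.exists_smul_eq G (e.symm x) (e.symm y)
    refine ⟨eH g, ?_⟩
    show φ g x = y
    rw [hφ, hg, Equiv.apply_symm_apply]
  · have hS : MulAction.stabilizer φ.range (0 : Fin (n + 1)) = A.map eH.toMonoidHom := by
      ext h
      obtain ⟨g, rfl⟩ := eH.surjective h
      rw [Subgroup.mem_map_equiv, MulEquiv.symm_apply_apply, MulAction.mem_stabilizer_iff, ← hstab]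
      exact Iff.rfl
    exact ⟨(MulEquiv.subgroupCongr hS).trans (eH.subgroupMap A).symm⟩

/-- Ten elements with Carmichael's relations give the realisation on 1140000 points. -/
theorem realization {G : Type} [Group G] (hG : Cfsg.IsHN G) (v : Fin 10 → G) (hv : Carm v)
    (h1 : v 0 ≠ 1) :
    ∃ H : Subgroup (Equiv.Perm (Fin 1140000)), Cfsg.IsHN H ∧
      MulAction.IsPretransitive H (Fin 1140000) ∧
      Nonempty (MulAction.stabilizer H (0 : Fin 1140000) ≃* alternatingGroup (Fin 12)) := by
  obtain ⟨hs, hc⟩ := hG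
  obtain ⟨ψ, hψ⟩ := exists_hom v hv
  haveI : Finite G := Nat.finite_of_card_ne_zero (by omega)
  haveI hsA : IsSimpleGroup (Alt2 (Fin 10)) := alternatingGroup.isSimpleGroup (by simp)
  have hinj : Function.Injective ψ := by
    rw [← MonoidHom.ker_eq_bot_iff]
    rcases hsA.eq_bot_or_eq_top_of_normal ψ.ker inferInstance with h | h
    · exact h
    · exfalso
      apply h1
      rw [← hψ 0]
      exact MonoidHom.mem_ker.1 (h ▸ Subgroup.mem_top _)
  let eA : ψ.range ≃* alternatingGroup (Fin 12) :=
    (MonoidHom.ofInjective hinj).symm.trans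
      (finSumFinEquiv : Fin 10 ⊕ Fin 2 ≃ Fin 12).altCongrHom
  have hA : Nat.card ψ.range = 239500800 := by
    rw [Nat.card_congr eA.toEquiv, nat_card_alternatingGroup, Nat.card_fin]
    rfl
  have hidx : ψ.range.index = 1139999 + 1 := by
    have := ψ.range.card_mul_index
    rw [hA, hc] at this
    omega
  obtain ⟨H, ⟨eH⟩, htr, ⟨eS⟩⟩ := coset_perm_group ψ.range 1139999 hidx (by omega)
  refine ⟨H, ⟨?_, ?_⟩, htr, ⟨eS.trans eA⟩⟩
  · exact eH.symm.isSimpleGroup
  · rw [← Nat.card_congr eH.toEquiv, hc]

end Cfsg.Agent.Lib.HNA12
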