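import Cfsg.Agent.Lib.HNA12.WordData
import Cfsg.Agent.Lib.HN3.HNItems
import Cfsg.Agent.Lib.HN3.HNRoots

/-!
The check of one relator at the five starting points.
-/

set_option maxRecDepth 100000

namespace Cfsg.Agent.Lib.HNA12

open Cfsg.Agent.Lib.HN3

/-- relator number `k` fixes the five starting points -/
noncomputable def relOK (k : Nat) (c : List (List Piece) × List Nat) : Bool :=
  hold k fun k => (fun w => belowB (fun z =>
    (fun s => (fun ps => band (spellK ps c.2 w)
      (fixK hnDeriv hnOrbs hnRoots s.1 s.2.1 s.2.2 ps c.2)) (nth [] c.1 z))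
      (nth (0, [], []) aStarts z)) 5) (relLetters (nth (false, 0, 0) aRels k))

/-- a group of nine relators -/
noncomputable def groupOK (g : Nat) (cs : List (List (List Piece) × List Nat)) : Bool :=
  belowB (fun i => relOK (Nat.add (Nat.mul 9 g) i) (nth ([], []) cs i)) 9

end Cfsg.Agent.Lib.HNA12
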