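import Cfsg.Agent.Lib.HNA12.CheckK
import Cfsg.Agent.Lib.HNA12.Cert4

/-!
Generated: kernel check of nine relators.
-/

set_option maxRecDepth 100000
set_option Elab.async false

namespace Cfsg.Agent.Lib.HNA12

theorem chk4 : groupOK 4 certs4 = true := by decide +kernel

end Cfsg.Agent.Lib.HNA12
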