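import Cfsg.Agent.Lib.HN3.FinalK

/-!
Kernel evaluator for a product of words in the first three generators and powers `t`, `t⁻¹`, on
right cosets of the subgroup generated by the first three generators.
-/

namespace Cfsg.Agent.Lib.HNA12

open Cfsg.Agent.Lib.HN3

/-- a piece: word, whether `t⁻¹` follows (else `t`), the step -/
structure Piece where
  pre : List Nat
  back : Bool
  st : Step

variable (D : Deriv) (Os : List Orbd) (Rs : List Root)

/-- every element of the stabiliser of orbit `0` counts -/
noncomputable def inS' (j : Nat) (u : List Nat) : Bool :=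
  Bool.rec (motive := fun _ => Bool) (inS D Os j u) true (Nat.beq j 0)

/-- a step along `t` -/
noncomputable def stepF (s : Step) (j : Nat) (h : List Nat) (k : Nat → List Nat → Bool) : Bool :=
  (fun R => band (Nat.blt s.r Rs.length) (band (Nat.beq R.i j)
    (band (Nat.beq (D.pk.go s.a 0) 0) (band (D.pk.same D.base (s.a ++ s.ai) [])
      (band (inS' D Os j (h ++ (s.ai ++ R.hfi)))
        (k (D.item R.k).j ((D.item R.k).g ++ s.a))))))) (nth noRoot Rs s.r)

/-- a step along `t⁻¹` -/
noncomputable def stepB (s : Step) (j : Nat) (h : List Nat) (k : Nat → List Nat → Bool) : Bool :=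
  (fun R => band (Nat.blt s.r Rs.length) (band (Nat.beq (D.item R.k).j j)
    (band (Nat.beq (D.pk.go s.a 0) 0) (band (D.pk.same D.base (s.a ++ s.ai) [])
      (band (inS' D Os j (h ++ (s.ai ++ R.gi)))
        (k R.i ((D.item R.k).h ++ s.a))))))) (nth noRoot Rs s.r)

/-- follow the pieces -/
noncomputable def runK (ps : List Piece) : Nat → List Nat → (Nat → List Nat → Bool) → Bool :=
  List.rec (motive := fun _ => Nat → List Nat → (Nat → List Nat → Bool) → Bool)
    (fun j h k => k j h)
    (fun p _ ih j h k => Bool.rec (motive := fun _ => Bool)
      (stepF D Os Rs p.st j (h ++ p.pre) fun j' h' => ih j' h' k)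
      (stepB D Os Rs p.st j (h ++ p.pre) fun j' h' => ih j' h' k) p.back) ps

/-- the pieces and the tail fix the coset of `(i, h)` -/
noncomputable def fixK (i : Nat) (h hi : List Nat) (ps : List Piece) (tail : List Nat) : Bool :=
  band (D.pk.same D.base (h ++ hi) [])
    (runK D Os Rs ps i h fun j g => band (Nat.beq j i) (inS' D Os i (g ++ (tail ++ hi))))

/-- the letters of a packed word are letters of the first three generators -/
noncomputable def smallW (u : List Nat) : Bool := forallB (fun l => Nat.blt l 5) (decode u)

/-- the letters of pieces and tail, `5` for `t` and `6` for its inverse -/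
noncomputable def flatK (ps : List Piece) (tail : List Nat) : List Nat :=
  List.rec (motive := fun _ => List Nat) (decode tail)
    (fun p _ ih => decode p.pre ++
      (Bool.rec (motive := fun _ => Nat) 5 6 p.back :: ih)) ps

/-- pieces and tail spell the word `w` -/
noncomputable def spellK (ps : List Piece) (tail w : List Nat) : Bool :=
  band (forallB (fun p : Piece => smallW p.pre) ps) (band (smallW tail) (eqLN (flatK ps tail) w))

end Cfsg.Agent.Lib.HNA12
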