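import Mathlib
import Cfsg.Agent.Lib.HN3.Deriv
import Cfsg.Agent.Lib.HNA12.WalkK

/-!
Soundness of the evaluator.
-/

set_option autoImplicit false

namespace Cfsg.Agent.Lib.HNA12

open Cfsg.Agent.Lib.HN3

variable {G : Type} [Group G]

/-- the facts about orbits and roots that the evaluator uses -/
structure Facts (C : Ctx G) (D : Deriv) (Os : List Orbd) (Rs : List Root) : Prop where
  stab : ∀ (j : ℕ) (u : List ℕ), inS' D Os j u = true → C.Eqv (D.W C j * C.hv u) (D.W C j)
  edge : ∀ r < Rs.length,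
    C.Eqv (D.W C (nth noRoot Rs r).i * C.hv (D.item (nth noRoot Rs r).k).h * C.t)
        (D.W C (D.item (nth noRoot Rs r).k).j * C.hv (D.item (nth noRoot Rs r).k).g) ∧
      C.hv (nth noRoot Rs r).hfi = (C.hv (D.item (nth noRoot Rs r).k).h)⁻¹ ∧
      C.hv (nth noRoot Rs r).gi = (C.hv (D.item (nth noRoot Rs r).k).g)⁻¹
  fix0 : ∀ a : List ℕ, hPk.go a 0 = 0 → Commute C.t (C.hv a)

/-- the value of a letter -/
noncomputable def letVal (C : Ctx G) (l : ℕ) : G :=
  if l = 5 then C.t else if l = 6 then C.t⁻¹ else C.φ (rep.f l)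

/-- the value of a list of letters -/
noncomputable def wordVal (C : Ctx G) (w : List ℕ) : G := (w.map (letVal C)).prod

theorem wordVal_append (C : Ctx G) (u v : List ℕ) :
    wordVal C (u ++ v) = wordVal C u * wordVal C v := by
  simp [wordVal]

theorem wordVal_decode (C : Ctx G) {u : List ℕ} (h : smallW u = true) :
    wordVal C (decode u) = C.hv u := by
  have h' := forallB_iff.1 h
  rw [wordVal, Ctx.hv, Rep.ev, map_list_prod, List.map_map]
  refine congrArg List.prod (List.map_congr_left fun l hl => ?_)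
  have : l < 5 := Nat.le_of_ble_eq_true (h' l hl)
  simp [letVal, show l ≠ 5 by omega, show l ≠ 6 by omega]

/-- the value of pieces -/
noncomputable def pieceVal (C : Ctx G) : List Piece → G
  | [] => 1
  | p :: ps => C.hv p.pre * (if p.back then C.t⁻¹ else C.t) * pieceVal C ps

theorem spellK_sound (C : Ctx G) : ∀ {ps : List Piece} {tail w : List ℕ},
    spellK ps tail w = true → pieceVal C ps * C.hv tail = wordVal C w
  | [], tail, w, h => by
    simp only [spellK, band_eq, Bool.and_eq_true, eqLN_iff] at h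
    rw [← h.2.2, pieceVal, one_mul]
    exact (wordVal_decode C h.2.1).symm
  | p :: ps, tail, w, h => by
    simp only [spellK, band_eq, Bool.and_eq_true, eqLN_iff] at h
    obtain ⟨hp, ht, hw⟩ := h
    have hp' := forallB_iff.1 hp
    rw [← hw]
    have ih : pieceVal C ps * C.hv tail = wordVal C (flatK ps tail) := by
      refine spellK_sound C ?_
      simp only [spellK, band_eq, Bool.and_eq_true, eqLN_iff]
      exact ⟨forallB_iff.2 fun q hq => hp' q (List.mem_cons_of_mem _ hq), ht, trivial⟩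
    show C.hv p.pre * _ * pieceVal C ps * C.hv tail = wordVal C (decode p.pre ++ _ :: flatK ps tail)
    rw [wordVal_append, wordVal_decode C (hp' p (List.mem_cons_self ..)), mul_assoc _ (pieceVal C ps),
      ih]
    obtain ⟨pre, back, st⟩ := p
    cases back <;> simp [wordVal, letVal, mul_assoc]

variable {C : Ctx G} {D : Deriv} {Os : List Orbd} {Rs : List Root}
  (F : Facts C D Os Rs) (hpk : D.pk = hPk) (hbase : D.base = hBase)
include F hpk hbase

theorem same_val {u v : List ℕ} (h : D.pk.same D.base u v = true) : C.hv u = C.hv v := by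
  rw [hpk, hbase] at h
  exact C.hv_same h

theorem stepF_sound {s : Step} {j : ℕ} {h : List ℕ} {k : ℕ → List ℕ → Bool}
    (hs : stepF D Os Rs s j h k = true) :
    ∃ j' h', k j' h' = true ∧ C.Eqv (D.W C j * C.hv h * C.t) (D.W C j' * C.hv h') := by
  simp only [stepF, band_eq, Bool.and_eq_true, beqN_iff] at hs
  obtain ⟨hr, hi, ha, hai, hin, hk⟩ := hs
  obtain ⟨he, hfi, -⟩ := F.edge _ (Nat.le_of_ble_eq_true hr)
  refine ⟨_, _, hk, ?_⟩
  rw [hpk] at ha
  have hc : Commute C.t (C.hv s.a) := F.fix0 _ ha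
  have hinv : C.hv s.ai = (C.hv s.a)⁻¹ := eq_inv_of_mul_eq_one_right (by
    rw [← C.hv_append, same_val F hpk hbase hai, C.hv_nil])
  have h1 := (F.stab _ _ hin).mul_right
    (C.hv (D.item (nth noRoot Rs s.r).k).h * C.hv s.a * C.t)
  rw [hi] at he
  rw [C.hv_append, C.hv_append, hinv, hfi] at h1
  simp only [mul_assoc, inv_mul_cancel_left] at h1
  have h2 := he.mul_right (C.hv s.a)
  simp only [mul_assoc, hc.eq] at h2
  rw [C.hv_append]
  simp only [mul_assoc]
  exact h1.trans h2

theorem stepB_sound {s : Step} {j : ℕ} {h : List ℕ} {k : ℕ → List ℕ → Bool}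
    (hs : stepB D Os Rs s j h k = true) :
    ∃ j' h', k j' h' = true ∧ C.Eqv (D.W C j * C.hv h * C.t⁻¹) (D.W C j' * C.hv h') := by
  simp only [stepB, band_eq, Bool.and_eq_true, beqN_iff] at hs
  obtain ⟨hr, hi, ha, hai, hin, hk⟩ := hs
  obtain ⟨he, -, hgi⟩ := F.edge _ (Nat.le_of_ble_eq_true hr)
  refine ⟨_, _, hk, ?_⟩
  rw [hpk] at ha
  have hc : Commute C.t⁻¹ (C.hv s.a) := (F.fix0 _ ha).inv_left
  have hinv : C.hv s.ai = (C.hv s.a)⁻¹ := eq_inv_of_mul_eq_one_right (by
    rw [← C.hv_append, same_val F hpk hbase hai, C.hv_nil])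
  have h1 := (F.stab _ _ hin).mul_right
    (C.hv (D.item (nth noRoot Rs s.r).k).g * C.hv s.a * C.t⁻¹)
  rw [hi] at he
  rw [C.hv_append, C.hv_append, hinv, hgi] at h1
  simp only [mul_assoc, inv_mul_cancel_left] at h1
  have h2 := he.symm.mul_right C.t⁻¹
  rw [mul_inv_cancel_right] at h2
  replace h2 := h2.mul_right (C.hv s.a)
  simp only [mul_assoc, hc.eq] at h2
  rw [C.hv_append]
  simp only [mul_assoc]
  exact h1.trans h2

theorem runK_sound : ∀ (ps : List Piece) (j : ℕ) (h : List ℕ) (k : ℕ → List ℕ → Bool),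
    runK D Os Rs ps j h k = true →
      ∃ j' h', k j' h' = true ∧ C.Eqv (D.W C j * C.hv h * pieceVal C ps) (D.W C j' * C.hv h')
  | [], j, h, k, hk => ⟨j, h, hk, by rw [pieceVal, mul_one]; exact Ctx.Eqv.refl _⟩
  | ⟨pre, back, st⟩ :: ps, j, h, k, hk => by
    cases back with
    | false =>
      obtain ⟨j1, h1, hk1, e1⟩ := stepF_sound F hpk hbase (s := st) (h := h ++ pre)
        (k := fun j' h' => runK D Os Rs ps j' h' k) hk
      obtain ⟨j2, h2, hk2, e2⟩ := runK_sound ps j1 h1 k hk1
      refine ⟨j2, h2, hk2, ?_⟩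
      have := (e1.mul_right (pieceVal C ps)).trans e2
      simpa [pieceVal, C.hv_append, mul_assoc] using this
    | true =>
      obtain ⟨j1, h1, hk1, e1⟩ := stepB_sound F hpk hbase (s := st) (h := h ++ pre)
        (k := fun j' h' => runK D Os Rs ps j' h' k) hk
      obtain ⟨j2, h2, hk2, e2⟩ := runK_sound ps j1 h1 k hk1
      refine ⟨j2, h2, hk2, ?_⟩
      have := (e1.mul_right (pieceVal C ps)).trans e2
      simpa [pieceVal, C.hv_append, mul_assoc] using this

/-- a checked word fixes the coset -/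
theorem fixK_sound {i : ℕ} {h hi : List ℕ} {ps : List Piece} {tail w : List ℕ}
    (hfix : fixK D Os Rs i h hi ps tail = true) (hsp : spellK ps tail w = true) :
    C.Eqv (D.W C i * C.hv h * wordVal C w) (D.W C i * C.hv h) := by
  simp only [fixK, band_eq, Bool.and_eq_true] at hfix
  obtain ⟨hh, hrun⟩ := hfix
  obtain ⟨j, g, hk, e⟩ := runK_sound F hpk hbase ps i h _ hrun
  simp only [band_eq, Bool.and_eq_true, beqN_iff] at hk
  obtain ⟨rfl, hin⟩ := hk
  have hinv : C.hv hi = (C.hv h)⁻¹ := eq_inv_of_mul_eq_one_right (by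
    rw [← C.hv_append, same_val F hpk hbase hh, C.hv_nil])
  have h1 := (F.stab _ _ hin).mul_right (C.hv h)
  rw [C.hv_append, C.hv_append, hinv] at h1
  simp only [mul_assoc, inv_mul_cancel, mul_one] at h1
  rw [← spellK_sound C hsp]
  have h2 := e.mul_right (C.hv tail)
  simp only [mul_assoc] at h2 ⊢
  exact h2.trans h1

end Cfsg.Agent.Lib.HNA12
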