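import Mathlib
import Cfsg.Agent.Lib.HNA12.Walk
import Cfsg.Agent.Lib.HN3.Main

/-!
The facts used by the evaluator in the presented Harada–Norton group.
-/

set_option autoImplicit false

namespace Cfsg.Agent.Lib.HNA12

open Cfsg.Agent.Lib.HN3
open Cfsg.Spor (HN)

theorem orb_big {j : ℕ} (hj : 9 ≤ j) : (nth noOrb hnOrbs j).chain = [] := by
  rw [nth_eq, List.getD_eq_default _ _ (by rw [hnOrbs_length]; exact hj)]
  rfl

theorem facts (hB : HBound) {G : Type} [Group G] (C : Ctx G) :
    Facts C hnDeriv hnOrbs hnRoots where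
  stab j u h := by
    rcases lt_or_ge j 9 with hj | hj
    · refine stab_eqv hB hj (s := rep.ev u) ?_
      rcases Nat.eq_zero_or_pos j with rfl | h0
      · rw [hnS_zero hB]; trivial
      · refine inS_mem hB hj ?_
        obtain ⟨i, rfl⟩ := Nat.exists_eq_succ_of_ne_zero h0.ne'
        exact h
    · obtain ⟨i, rfl⟩ := Nat.exists_eq_succ_of_ne_zero (by omega : j ≠ 0)
      have h' : eqLN (hPk.mov u hBase) hBase = true := by
        have h2 : inS hnDeriv hnOrbs (i + 1) u = true := h
        rw [inS, orb_big hj] at h2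
        exact h2
      rw [rep.mov_base hBase_lt, eqLN_iff] at h'
      have e : rep.ev u = 1 := C.inj _ h'
      rw [Ctx.hv, e, map_one, mul_one]
      exact Ctx.Eqv.refl _
  edge r hr := by
    have hi : (hnRoot r).i < 9 := by
      have h : belowB (fun r => Nat.blt (hnRoot r).i 9) 101 = true := by decide +kernel
      exact Nat.le_of_ble_eq_true (belowB_iff.1 h r (hnRoots_length ▸ hr))
    obtain ⟨hk, -, e1, e2, -⟩ := rootOK_spec hB hr hi
    have hh := item_holds (C := C) hk
    have hd : (hnDeriv.item (hnRoot r).k).i = (hnRoot r).i ∧ (hnDeriv.item (hnRoot r).k).d = 1 := by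
      have h := hnRootOK_ok r (hnRoots_length ▸ hr)
      simp only [rootOK, band_eq, Bool.and_eq_true, beqN_iff] at h
      exact ⟨h.2.1, h.2.2.1⟩
    rw [Deriv.Holds, hd.1, hd.2, pow_one] at hh
    exact ⟨hh, by rw [Ctx.hv, e1, map_inv]; rfl, by rw [Ctx.hv, e2, map_inv]; rfl⟩
  fix0 a ha := by
    refine commute_Cpt hB (a := rep.ev a) ?_
    show rep.pt (rep.ev a) 0 = 0
    rw [← rep.go_eq a 0 (by rw [hPk_n]; decide)]
    exact ha

variable (hB : HBound) {C : Ctx HN} (h0 : C.φ (rep.f 0) = hnGen .x)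
  (h2 : C.φ (rep.f 2) = hnGen .y) (h4 : C.φ (rep.f 4) = hnGen .z) (ht : C.t = hnGen .t)
include hB h0 h2 h4 ht

/-- the map of the first three generators is injective -/
theorem phi_injective : Function.Injective C.φ := by
  refine (injective_iff_map_eq_one C.φ).2 fun u hu => smul_faithful hB fun ω => ?_
  have := congrArg (fun p : Equiv.Perm HNPts => p ω) (hnPerm_phi hB h0 h2 h4 u)
  simpa [hu] using this.symm

/-- the stabiliser of the second orbit fixes the first point -/
theorem stab1 (g : Hbar) (hg : C.Eqv (hnDeriv.W C 1 * C.φ g) (hnDeriv.W C 1)) :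
    rep.pt g 0 = 0 := by
  have hpar : nth (0, []) hnDeriv.par 0 = ((0, []) : ℕ × List ℕ) := rfl
  have hW : hnDeriv.W C 1 = C.t := by
    rw [Deriv.W, dif_pos (by rw [hpar]; decide), hpar]
    simp [Deriv.W, C.hv_nil]
  rw [hW] at hg
  obtain ⟨u, hu⟩ := hg
  have hp1 : hnPerm hB (hnGen .t)⁻¹ hnBase = hnPt 1 1 := by
    rw [pow_tau_inv hB _ _ (hnPerm_gen hB .t)]
    have h : stepK hnDeriv hnOrbs hnRoots (nth ⟨0, [], []⟩ hnDefs 0)
        (nth (0, []) hnDeriv.par 0).1 (nth (0, []) hnDeriv.par 0).2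
        (fun j' g => band (Nat.beq j' (Nat.succ 0)) (inS hnDeriv hnOrbs j' g)) = true :=
      belowB_iff.1 hnDefsOK 0 (by decide)
    rw [hpar] at h
    obtain ⟨j', g', -, he, hk⟩ := stepK_spec hB (by decide) h
    simp only [band_eq, Bool.and_eq_true, beqN_iff] at hk
    obtain ⟨rfl, hs⟩ := hk
    rw [rep.ev_nil] at he
    rw [hnBase, he]
    refine hnPt_congr (by decide) ?_
    rw [inv_one, mul_one]
    exact inS_mem hB (by decide) hs
  have hu' : C.φ g = C.t⁻¹ * C.φ u * C.t := by rw [hu]; group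
  have hfix : g • hnPt 1 1 = hnPt 1 1 := by
    have e := hnPerm_phi hB h0 h2 h4 g
    have e' : hnPerm hB (C.φ g) (hnPt 1 1) = g • hnPt 1 1 := by rw [e]; rfl
    rw [← e', ← hp1, hu', ht, ← Equiv.Perm.mul_apply, ← map_mul, mul_assoc, mul_inv_cancel,
      mul_one, map_mul, Equiv.Perm.mul_apply, hnPerm_phi hB h0 h2 h4, MulAction.toPermHom_apply,
      MulAction.toPerm_apply, smul_hnBase hB]
  rw [smul_hnPt, one_mul] at hfix
  obtain ⟨-, hmem⟩ := hnPt_inj (by decide) (by decide) hfix
  rw [inv_one, mul_one, inv_mem_iff] at hmem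
  exact hnS_one_le hmem

end Cfsg.Agent.Lib.HNA12
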