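import Mathlib
import Cfsg.Agent.Lib.BoundedPresentation.Carmichael
import Cfsg.Agent.Lib.HNA12.Walk
import Cfsg.Agent.Lib.HNA12.Chk0
import Cfsg.Agent.Lib.HNA12.Chk1
import Cfsg.Agent.Lib.HNA12.Chk2
import Cfsg.Agent.Lib.HNA12.Chk3
import Cfsg.Agent.Lib.HNA12.Chk4
import Cfsg.Agent.Lib.HNA12.Chk5

/-!
The ten words satisfy Carmichael's relations.
-/

set_option autoImplicit false

namespace Cfsg.Agent.Lib.HNA12

open Cfsg.Agent.Lib.HN3 Cfsg.Agent.Lib.BoundedPresentation

theorem hnDeriv_pk : hnDeriv.pk = hPk := rfl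

theorem hnDeriv_base : hnDeriv.base = hBase := rfl

/-- the checks of all relators -/
theorem relOK_all : ∀ k < 54, ∃ c, relOK k c = true := by
  have h : ∀ g cs, groupOK g cs = true → ∀ k, 9 * g ≤ k → k < 9 * g + 9 → ∃ c, relOK k c = true := by
    intro g cs hg k h1 h2
    have h' : relOK (9 * g + (k - 9 * g)) _ = true := belowB_iff.1 hg (k - 9 * g) (by omega)
    rw [Nat.add_sub_cancel' h1] at h'
    exact ⟨_, h'⟩
  intro k hk
  rcases lt_or_ge k 9 with h0 | h0
  · exact h 0 _ chk0 k (by omega) (by omega)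
  rcases lt_or_ge k 18 with h1 | h1
  · exact h 1 _ chk1 k (by omega) (by omega)
  rcases lt_or_ge k 27 with h2 | h2
  · exact h 2 _ chk2 k (by omega) (by omega)
  rcases lt_or_ge k 36 with h3 | h3
  · exact h 3 _ chk3 k (by omega) (by omega)
  rcases lt_or_ge k 45 with h4 | h4
  · exact h 4 _ chk4 k (by omega) (by omega)
  · exact h 5 _ chk5 k (by omega) (by omega)

/-- the starting points: the first coset and the base points in the second orbit -/
theorem aStarts_spec : aStarts.map (fun s => (s.1, eqLN (hPk.mov s.2.1 [0]) [0])) =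
    [(0, true), (1, true), (1, false), (1, false), (1, false)] ∧
    (aStarts.map (fun s => hPk.go s.2.1 0)).tail = hBase ∧
    forallB (fun s => hPk.same hBase (s.2.1 ++ s.2.2) []) aStarts = true := by
  refine ⟨?_, ?_, ?_⟩ <;> decide +kernel

variable {G : Type} [Group G]

theorem W_zero (C : Ctx G) (D : Deriv) : D.W C 0 = 1 := by
  rw [Deriv.W]

variable (C : Ctx G) (F : Facts C hnDeriv hnOrbs hnRoots)
  (stab1 : ∀ g : Hbar, C.Eqv (hnDeriv.W C 1 * C.φ g) (hnDeriv.W C 1) → rep.pt g 0 = 0)
include F stab1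

theorem rel_val (k : ℕ) (hk : k < 54) :
    wordVal C (relLetters (nth (false, 0, 0) aRels k)) = 1 := by
  obtain ⟨c, hc⟩ := relOK_all k hk
  simp only [relOK, hold_eq, belowB_iff, band_eq, Bool.and_eq_true] at hc
  set w := relLetters (nth (false, 0, 0) aRels k)
  have hz : ∀ z < 5, C.Eqv
      (hnDeriv.W C (nth (0, [], []) aStarts z).1 * C.hv (nth (0, [], []) aStarts z).2.1 * wordVal C w)
      (hnDeriv.W C (nth (0, [], []) aStarts z).1 * C.hv (nth (0, [], []) aStarts z).2.1) :=
    fun z hz => fixK_sound F hnDeriv_pk hnDeriv_base (hc z hz).2 (hc z hz).1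
  have h0 := hz 0 (by decide)
  rw [show nth (0, [], []) aStarts 0 = (0, [], []) from rfl] at h0
  simp only [W_zero, Ctx.hv_nil, one_mul] at h0
  have hmem : wordVal C w ∈ C.φ.range := by simpa [Ctx.Eqv] using h0
  obtain ⟨g, hg⟩ := hmem
  suffices g = 1 by rw [← hg, this, map_one]
  refine C.inj g ?_
  have hb : ∀ z, z < 5 → 0 < z →
      rep.pt g (hPk.go (nth (0, [], []) aStarts z).2.1 0) =
        hPk.go (nth (0, [], []) aStarts z).2.1 0 := by
    intro z hz5 hz0
    have h1 : (nth (0, [], []) aStarts z).1 = 1 := by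
      interval_cases z <;> rfl
    have e := (hz z hz5).mul_right (C.hv (nth (0, [], []) aStarts z).2.1)⁻¹
    rw [h1, mul_inv_cancel_right, ← hg] at e
    set u := (nth (0, [], []) aStarts z).2.1
    have e' := stab1 (rep.ev u * g * (rep.ev u)⁻¹) (by
      simpa [Ctx.hv, map_mul, map_inv, mul_assoc] using e)
    rw [rep.pt_mul, rep.pt_mul, ← rep.go_eq u 0 (by rw [hPk_n]; decide)] at e'
    have e'' := rep.pt_inv e'
    rw [inv_inv, ← rep.go_eq u 0 (by rw [hPk_n]; decide)] at e''
    exact e''.symm
  have hbase : ∀ b ∈ hBase, rep.pt g b = b := by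
    rw [← aStarts_spec.2.1]
    intro b hb'
    obtain ⟨i, hi, rfl⟩ := List.getElem_of_mem hb'
    have hi' : i + 1 < aStarts.length := by simp at hi; omega
    have := hb (i + 1) (by rw [show aStarts.length = 5 from rfl] at hi'; omega) (by omega)
    rw [nth_eq, List.getD_eq_getElem _ _ hi'] at this
    simpa using this
  show rep.imgs g hBase = hBase
  rw [Rep.imgs]
  conv_rhs => rw [← List.map_id hBase]
  exact List.map_congr_left hbase

theorem rel_mem {e : Bool × ℕ × ℕ} (he : e ∈ aRels) : wordVal C (relLetters e) = 1 := by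
  obtain ⟨k, hk, rfl⟩ := List.getElem_of_mem he
  rw [← List.getD_eq_getElem _ (false, 0, 0) hk, ← nth_eq]
  exact rel_val C F stab1 k hk

/-- the ten elements -/
theorem exists_carm (hφ : Function.Injective C.φ) :
    ∃ v : Fin 10 → G, Carm v ∧ v 0 ≠ 1 := by
  let v : Fin 10 → G := fun i => wordVal C (nth [] aWords i)
  have h0 : v 0 = C.hv [27] := by
    show wordVal C (nth [] aWords ((0 : Fin 10) : ℕ)) = _
    rw [← wordVal_decode C (u := [27]) (by decide +kernel)]
    exact congrArg (wordVal C) (show nth [] aWords ((0 : Fin 10) : ℕ) = decode [27] by decide +kernel)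
  have hpair : ∀ i j : Fin 10, i < j → (v i * v j) ^ 2 = 1 := by
    intro i j hij
    have hm : (true, (i : ℕ), (j : ℕ)) ∈ aRels := by
      revert hij; revert i j; decide +kernel
    have := rel_mem C F stab1 hm
    simp only [relLetters, wordVal_append] at this
    simpa [v, pow_two, mul_assoc] using this
  refine ⟨v, ⟨fun i => ?_, fun i j hij => ?_⟩, ?_⟩
  · rcases eq_or_ne i 0 with rfl | hi
    · rw [h0, pow_succ, pow_two, ← C.hv_append, ← C.hv_append, ← C.hv_nil]
      exact C.hv_same (by decide +kernel)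
    · have hm : (false, (i : ℕ), (i : ℕ)) ∈ aRels := by
        revert hi; revert i; decide +kernel
      have := rel_mem C F stab1 hm
      simp only [relLetters, wordVal_append] at this
      simpa [v, pow_succ, mul_assoc] using this
  · rcases lt_or_gt_of_ne hij with h | h
    · exact hpair i j h
    · have := hpair j i h
      rw [pow_two] at this ⊢
      have e : v i * v j * (v i * v j) = (v j)⁻¹ * (v j * v i * (v j * v i)) * v j := by group
      rw [e, this, mul_one, inv_mul_cancel]
  · rw [h0]
    intro h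
    have h1 : rep.ev [27] = 1 := hφ (by rw [map_one]; exact h)
    have h2 := rep.mov_base hBase_lt [27]
    rw [h1, rep.imgs_one] at h2
    have h3 : eqLN (hPk.mov [27] hBase) hBase = false := by decide +kernel
    rw [eqLN_iff.2 h2] at h3
    exact absurd h3 (by decide)

end Cfsg.Agent.Lib.HNA12
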