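import Mathlib
import Cfsg.Agent.Lib.HN3.Index
import Cfsg.Agent.Lib.HNA12.Abstract
import Cfsg.Agent.Lib.HNA12.Words
import Cfsg.Agent.Lib.HNA12.Setup

/-!
The presented Harada–Norton group as a transitive group on 1140000 points.
-/

set_option autoImplicit false

namespace Cfsg.Agent.Lib.HNA12

open Cfsg.Agent.Lib.HN3

theorem realization_of_bound (hB : HBound) :
    ∃ H : Subgroup (Equiv.Perm (Fin 1140000)), Cfsg.IsHN H ∧
      MulAction.IsPretransitive H (Fin 1140000) ∧
      Nonempty (MulAction.stabilizer H (0 : Fin 1140000) ≃* alternatingGroup (Fin 12)) := by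
  obtain ⟨C, h0, h2, h4, ht⟩ := exists_ctx hB
  obtain ⟨v, hv, h1⟩ := exists_carm C (facts hB C) (stab1 hB h0 h2 h4 ht)
    (phi_injective hB h0 h2 h4 ht)
  exact realization (isHN_presented hB) v hv h1

end Cfsg.Agent.Lib.HNA12
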