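import Cfsg.Agent.Lib.HNA12.WalkK

/-!
Ten words for the alternating group of degree 12 (5 is `t`, 6 its inverse), the starting points and the relators.
-/

set_option maxRecDepth 100000
set_option Elab.async false

namespace Cfsg.Agent.Lib.HNA12

open Cfsg.Agent.Lib.HN3

/-- the ten words -/
def aWords : List (List Nat) :=
  [[2, 2],
   [3, 3, 4, 5, 2, 4, 1, 5, 2, 2, 4, 1, 5, 3, 3, 4, 3, 4, 6, 0, 0, 5, 4, 2, 4, 2, 2, 6, 0, 4, 3, 3, 6, 0, 4, 3, 6, 4],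
   [3, 3, 4, 6, 2, 4, 0, 5, 2, 2, 4, 1, 5, 3, 3, 4, 3, 4, 6, 0, 0, 5, 4, 2, 4, 2, 2, 6, 0, 4, 3, 3, 6, 1, 4, 3, 5, 4],
   [3, 3, 4, 6, 2, 4, 1, 2, 4, 3, 3, 4, 6, 3, 4, 5, 3, 4, 6, 0, 0, 5, 4, 2, 6, 4, 2, 5, 4, 2, 2, 4, 3, 0, 4, 3, 5, 4],
   [3, 3, 4, 5, 2, 4, 0, 2, 4, 3, 3, 4, 6, 3, 4, 5, 3, 4, 6, 0, 0, 5, 4, 2, 6, 4, 2, 5, 4, 2, 2, 4, 3, 1, 4, 3, 6, 4],
   [3, 3, 3, 4, 5, 3, 3, 3, 4, 1, 3, 3, 4, 6, 4, 5, 3, 3, 4, 6, 0, 0, 5, 4, 2, 2, 6, 4, 5, 4, 2, 2, 0, 4, 2, 2, 2, 6, 4, 2],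
   [3, 3, 3, 4, 5, 2, 2, 4, 1, 6, 3, 3, 4, 5, 3, 3, 4, 6, 0, 0, 5, 4, 2, 2, 6, 4, 2, 2, 5, 0, 4, 3, 3, 6, 4, 2],
   [3, 3, 4, 5, 2, 1, 3, 1, 3, 4, 5, 3, 3, 4, 6, 1, 3, 3, 4, 6, 0, 0, 5, 4, 2, 2, 0, 5, 4, 2, 2, 6, 4, 2, 0, 2, 0, 3, 6, 4],
   [3, 3, 4, 6, 3, 3, 4, 5, 3, 3, 1, 3, 3, 4, 5, 3, 3, 4, 6, 0, 0, 5, 4, 2, 2, 6, 4, 2, 2, 0, 2, 2, 6, 4, 2, 2, 5, 4],
   [3, 3, 3, 4, 6, 3, 3, 4, 5, 1, 3, 3, 4, 5, 3, 3, 4, 6, 0, 0, 5, 4, 2, 2, 6, 4, 2, 2, 0, 6, 4, 2, 2, 5, 4, 2]]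

/-- the starting points -/
def aStarts : List (Nat × List Nat × List Nat) :=
  [(0, [], []), (1, [], []), (1, [0xa64ae9], [0x5656d5]), (1, [0x2594b6e9], [0x15922aeb]), (1, [0x1a92cadd], [0x2c95d6cc])]

/-- the relators: a cube or the square of a product -/
def aRels : List (Bool × Nat × Nat) :=
  [(false, 1, 1), (false, 2, 2), (false, 3, 3), (false, 4, 4), (false, 5, 5), (false, 6, 6), (false, 7, 7), (false, 8, 8), (false, 9, 9), (true, 0, 1), (true, 0, 2), (true, 0, 3), (true, 0, 4), (true, 0, 5), (true, 0, 6), (true, 0, 7), (true, 0, 8), (true, 0, 9), (true, 1, 2), (true, 1, 3), (true, 1, 4), (true, 1, 5), (true, 1, 6), (true, 1, 7), (true, 1, 8), (true, 1, 9), (true, 2, 3), (true, 2, 4), (true, 2, 5), (true, 2, 6), (true, 2, 7), (true, 2, 8), (true, 2, 9), (true, 3, 4), (true, 3, 5), (true, 3, 6), (true,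 3, 7), (true, 3, 8), (true, 3, 9), (true, 4, 5), (true, 4, 6), (true, 4, 7), (true, 4, 8), (true, 4, 9), (true, 5, 6), (true, 5, 7), (true, 5, 8), (true, 5, 9), (true, 6, 7), (true, 6, 8), (true, 6, 9), (true, 7, 8), (true, 7, 9), (true, 8, 9)]

/-- the letters of a relator -/
noncomputable def relLetters (e : Bool × Nat × Nat) : List Nat :=
  Bool.rec (motive := fun _ => List Nat)
    (nth [] aWords e.2.1 ++ (nth [] aWords e.2.1 ++ nth [] aWords e.2.1))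
    (nth [] aWords e.2.1 ++ (nth [] aWords e.2.2 ++ (nth [] aWords e.2.1 ++ nth [] aWords e.2.2))) e.1

end Cfsg.Agent.Lib.HNA12
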